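import Cfsg.Agent.GW.Full
import Cfsg.Agent.S2119
import Cfsg.Agent.S0111
import Cfsg.Agent.Invol.ZS
import Cfsg.Agent.Classical.SLCard

/-! Classes of 2-elements: counting the fusion classes in a Sylow 2-subgroup (`count`, `key`), isolated 2-elements are
central (`iso_central`), groups with a strongly closed four-group of index at most two in a Sylow 2-subgroup (`fin`). -/
set_option autoImplicit false
set_option linter.unusedSectionVars false
open Subgroup Cfsg Cfsg.Agent.BG Cfsg.Agent.Invol Cfsg.Agent.GW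
open scoped MatrixGroups

namespace Cfsg.Agent.HalfCl
variable {G : Type*} [Group G] [Finite G]

theorem syl (P : Sylow 2 G) : SylowIn 2 (P : Subgroup G) ⊤ := by
  have := Fact.mk Nat.prime_two
  obtain ⟨R, hR, le⟩ := Sylow_superset (le_top : (P : Subgroup G) ≤ ⊤) P.isPGroup'
  exact (P.is_maximal' hR.pg le) ▸ hR

theorem iso_central (P : Sylow 2 G) (hO : pPrimeCore 2 G = ⊥) {x : G} (hx : x ∈ (P : Subgroup G))
    (hi : ∀ g, g * x * g⁻¹ ∈ (P : Subgroup G) → g * x * g⁻¹ = x) : x ∈ center G := by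
  have := Fact.mk Nat.prime_two
  have hc : ∀ s ∈ (P : Subgroup G), Commute s x := fun s hs =>
    mul_inv_eq_iff_eq_mul.1 (hi s (mul_mem (mul_mem hs hx) (inv_mem hs)))
  obtain ⟨n, hn⟩ := P.isPGroup' ⟨x, hx⟩
  have pg : IsPGroup 2 (zpowers x) := P.isPGroup'.to_le (zpowers_le.2 hx)
  refine center_of_weaklyClosed_aux n P x hO (congrArg Subtype.val hn) hx hc fun k g hg => ?_
  have h1 : zpowers x ≤ C1[g * x ^ k * g⁻¹] := zpowers_le.2 (mem_cent1.2 (hc _ hg).symm.eq)
  have h2 : cj g (zpowers x) ≤ C1[g * x ^ k * g⁻¹] := fun y hy => by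
    obtain ⟨_, ⟨j, rfl⟩, rfl⟩ := mem_cj'.1 hy
    refine mem_cent1.2 ?_
    have : x ^ j * x ^ k = x ^ k * x ^ j := ((Commute.refl x).zpow_left j).pow_right k
    calc _ = g * (x ^ j * x ^ k) * g⁻¹ := by group
      _ = _ := by rw [this]; group
  obtain ⟨T, hT, le⟩ := Sylow_superset h1 pg
  obtain ⟨c, hcm, lc⟩ := Sylow_Jsub hT h2 (pg.map _)
  obtain ⟨h, -, lh⟩ := Sylow_Jsub (syl P) le_top hT.pg
  have e1 := hi h (lh (conj_mem_cj h (le (mem_zpowers x))))
  have e2 := hi (h * c * g) (by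
    have := lh (conj_mem_cj h (lc (conj_mem_cj c (conj_mem_cj g (mem_zpowers x)))))
    rwa [show h * (c * (g * x * g⁻¹) * c⁻¹) * h⁻¹ = h * c * g * x * (h * c * g)⁻¹ by group] at this)
  have e3 : c * g * x * (c * g)⁻¹ = x := by
    rw [show c * g * x * (c * g)⁻¹ = h⁻¹ * (h * c * g * x * (h * c * g)⁻¹) * h by group, e2]
    conv_lhs => rw [← e1]
    group
  have e4 : c * (g * x ^ k * g⁻¹) * c⁻¹ = x ^ k := by
    conv_rhs => rw [← e3, conj_pow]
    group
  rw [mem_cent1.1 hcm, mul_inv_cancel_right] at e4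
  rw [e4]; exact mem_zpowers _

/-- A 2-group does not have `#G / 2` conjugacy classes. -/
theorem not_half (hG : IsPGroup 2 G) : 2 * Nat.card (ConjClasses G) ≠ Nat.card G := fun h => by
  classical
  have := Fact.mk Nat.prime_three
  have := Fintype.ofFinite G
  let f : Function.End {p : G × G // Commute p.1 p.2} := fun p =>
    ⟨(p.1.2, (p.1.1 * p.1.2)⁻¹), (p.2.symm.mul_right (Commute.refl _)).inv_right⟩
  have hf : f ^ 3 ^ 1 = 1 := by
    funext p
    refine Subtype.ext (Prod.ext ?_ ?_)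
    · change (p.1.2 * (p.1.1 * p.1.2)⁻¹)⁻¹ = p.1.1
      group
    · change ((p.1.1 * p.1.2)⁻¹ * (p.1.2 * (p.1.1 * p.1.2)⁻¹)⁻¹)⁻¹ = p.1.2
      group
  have h1 := Equiv.Perm.card_fixedPoints_modEq hf
  have h2 : Fintype.card f.fixedPoints = 1 := by
    refine Fintype.card_eq_one_iff.2 ⟨⟨⟨(1, 1), Commute.refl _⟩, Subtype.ext (by simp [f])⟩, ?_⟩
    rintro ⟨⟨⟨a, b⟩, hab⟩, hp⟩
    have e := congrArg Subtype.val hp
    simp only [f, Prod.mk.injEq] at e
    obtain ⟨rfl, e⟩ := e
    have : b = 1 := by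
      obtain ⟨k, hk⟩ := hG b
      have h3 : b ^ 3 = 1 := by rw [pow_succ, pow_two, ← inv_eq_iff_mul_eq_one, e]
      have := Nat.Coprime.pow_left k (by decide : Nat.Coprime 2 3)
      exact orderOf_eq_one_iff.1 (Nat.eq_one_of_dvd_coprimes this (orderOf_dvd_of_pow_eq_one hk) (orderOf_dvd_of_pow_eq_one h3))
    subst this; rfl
  rw [h2, ← Nat.card_eq_fintype_card, card_comm_eq_card_conjClasses_mul_card, ← h] at h1
  generalize Nat.card (ConjClasses G) = k at h1
  have : k % 3 = 0 ∨ k % 3 = 1 ∨ k % 3 = 2 := by omega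
  rcases this with e | e | e <;> simp [Nat.ModEq, Nat.mul_mod, e] at h1

open _root_.Classical in
/-- The elements of `P` fused to `x`. -/
noncomputable def cl (P : Subgroup G) (x : G) : Finset G := (P : Set G).toFinite.toFinset.filter (IsConj x)

theorem mem_cl {P : Subgroup G} {x y : G} : y ∈ cl P x ↔ y ∈ P ∧ IsConj x y := by simp [cl]

theorem count (P : Sylow 2 G) : ∑ x ∈ ((P : Subgroup G) : Set G).toFinite.toFinset, (1 / (cl P x).card : ℚ) =
    Nat.card {c : ConjClasses G // ∀ x ∈ c.carrier, ∃ k : ℕ, orderOf x = 2 ^ k} := by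
  classical
  have := Fact.mk Nat.prime_two
  set s := ((P : Subgroup G) : Set G).toFinite.toFinset with hs
  rw [← Finset.sum_fiberwise_of_maps_to (t := s.image ConjClasses.mk) (g := ConjClasses.mk)
    fun x hx => Finset.mem_image_of_mem _ hx, Nat.subtype_card (s.image ConjClasses.mk), Finset.card_eq_sum_ones,
    Nat.cast_sum]
  · refine Finset.sum_congr rfl fun c hc => ?_
    obtain ⟨x, hx, rfl⟩ := Finset.mem_image.1 hc
    have e : s.filter (fun y => ConjClasses.mk y = ConjClasses.mk x) = cl P x := by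
      ext y; simp only [hs, mem_cl, ConjClasses.mk_eq_mk_iff_isConj, Finset.mem_filter, Set.Finite.mem_toFinset,
        SetLike.mem_coe, isConj_comm (g := y)]
    have hx' : x ∈ cl P x := mem_cl.2 ⟨(Set.Finite.mem_toFinset _).1 hx, IsConj.refl x⟩
    rw [e, Finset.sum_congr rfl (g := fun _ => (1 / (cl P x).card : ℚ)) fun y hy => by
      have : cl P y = cl P x := by
        ext z; simp only [mem_cl]
        exact and_congr_right fun _ => ⟨(mem_cl.1 hy).2.trans, (mem_cl.1 hy).2.symm.trans⟩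
      rw [this], Finset.sum_const, nsmul_eq_mul, mul_one_div_cancel (by
        exact_mod_cast (Finset.card_pos.2 ⟨x, hx'⟩).ne'), Nat.cast_one]
  · intro c
    obtain ⟨x, rfl⟩ := ConjClasses.mk_surjective c
    simp only [Finset.mem_image, hs, Set.Finite.mem_toFinset, SetLike.mem_coe, ConjClasses.mem_carrier_iff_mk_eq,
      ConjClasses.mk_eq_mk_iff_isConj]
    constructor
    · rintro ⟨a, ha, h⟩ y hy
      obtain ⟨k, hk⟩ := IsPGroup.iff_orderOf.1 P.isPGroup' ⟨a, ha⟩
      obtain ⟨g, rfl⟩ := isConj_iff.1 (h.trans hy.symm)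
      exact ⟨k, by rw [BG.orderOf_conj', ← hk, Subgroup.orderOf_mk]⟩
    · intro h
      obtain ⟨k, hk⟩ := h x (IsConj.refl x)
      obtain ⟨g, -, le⟩ := Sylow_Jsub (syl P) le_top (IsPGroup.of_card (n := k) (p := 2) (G := zpowers x)
        (by rw [Nat.card_zpowers, hk]))
      exact ⟨_, le (conj_mem_cj g (mem_zpowers x)), (isConj_iff.2 ⟨g, rfl⟩).symm⟩

theorem center_le (P : Sylow 2 G) (hO : pPrimeCore 2 G = ⊥) : center G ≤ P := fun x hx => by
  have := Fact.mk Nat.prime_two
  obtain ⟨k, m, hm, e⟩ := Nat.exists_eq_two_pow_mul_odd (orderOf_pos x).ne'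
  have n : ∀ y ∈ center G, (zpowers y).Normal := fun y hy => ⟨fun a ha g => by
    rw [mem_center_iff.1 (zpowers_le.2 hy ha) g, mul_inv_cancel_right]; exact ha⟩
  have := n _ (pow_mem hx (2 ^ k))
  have h1 : x ^ 2 ^ k = 1 := mem_bot.1 (hO ▸ le_oddCore (N := zpowers (x ^ 2 ^ k)) (by
    rw [Nat.card_zpowers]
    exact hm.of_dvd_nat (orderOf_dvd_of_pow_eq_one (by rw [← pow_mul, ← e, pow_orderOf_eq_one]))) (mem_zpowers _))
  obtain ⟨j, -, hj⟩ := (Nat.dvd_prime_pow Nat.prime_two).1 (orderOf_dvd_of_pow_eq_one h1)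
  obtain ⟨g, -, le⟩ := Sylow_Jsub (syl P) le_top (IsPGroup.of_card (n := j) (p := 2) (G := zpowers x)
    (by rw [Nat.card_zpowers, hj]))
  have := le (conj_mem_cj g (mem_zpowers x))
  rwa [mem_center_iff.1 hx g, mul_inv_cancel_right] at this

theorem three_le {P : Subgroup G} {x a b c : G} (ha : a ∈ cl P x) (hb : b ∈ cl P x) (hc : c ∈ cl P x) (ab : a ≠ b)
    (ac : a ≠ c) (bc : b ≠ c) : 3 ≤ (cl P x).card :=
  Finset.two_lt_card.2 ⟨a, ha, b, hb, c, hc, ab, ac, bc⟩

theorem key (P : Sylow 2 G) (hO : pPrimeCore 2 G = ⊥)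
    (hk : 2 * Nat.card {c : ConjClasses G // ∀ x ∈ c.carrier, ∃ k : ℕ, orderOf x = 2 ^ k} = Nat.card (P : Subgroup G))
    {a b c : G} (ha : a ∈ (P : Subgroup G)) (hb : b ∈ (P : Subgroup G)) (hc : c ∈ (P : Subgroup G)) (ab : IsConj a b)
    (ac : IsConj a c) (h1 : a⁻¹ * b ∉ center G) (h2 : a⁻¹ * c ∉ center G) (h3 : b⁻¹ * c ∉ center G) :
    (cl P a).card = 3 ∧ ∀ x ∈ (P : Subgroup G), 3 ≤ (cl P x).card →
      a⁻¹ * x ∈ center G ∨ b⁻¹ * x ∈ center G ∨ c⁻¹ * x ∈ center G := by
  classical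
  set s := ((P : Subgroup G) : Set G).toFinite.toFinset with hs
  have ms : ∀ x, x ∈ s ↔ x ∈ (P : Subgroup G) := fun x => Set.Finite.mem_toFinset _
  let χ : G → G → ℚ := fun y x => if y⁻¹ * x ∈ center G then 1 else 0
  have hχ : ∀ y ∈ (P : Subgroup G), ∑ x ∈ s, χ y x = ∑ x ∈ s, χ 1 x := fun y hy =>
    Finset.sum_nbij' (fun x => y⁻¹ * x) (fun x => y * x) (fun x hx => (ms _).2 (mul_mem (inv_mem hy) ((ms _).1 hx)))
      (fun x hx => (ms _).2 (mul_mem hy ((ms _).1 hx))) (fun x _ => by simp) (fun x _ => by simp) fun x _ => by simp [χ]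
  have cz : ∀ {x y : G}, IsConj x y → x ∈ center G → x = y := fun h hx => by
    obtain ⟨g, rfl⟩ := isConj_iff.1 h
    rw [mem_center_iff.1 hx g, mul_inv_cancel_right]
  have na : a ∉ center G := fun h => h1 (by rw [← cz ab h, inv_mul_cancel]; exact one_mem _)
  have nb : b ∉ center G := fun h => h1 (by rw [cz ab.symm h, inv_mul_cancel]; exact one_mem _)
  have nc : c ∉ center G := fun h => h2 (by rw [cz ac.symm h, inv_mul_cancel]; exact one_mem _)
  have dj : ∀ {u v x : G}, u⁻¹ * v ∉ center G → u⁻¹ * x ∈ center G → v⁻¹ * x ∉ center G := fun {u v x} h m n =>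
    h (by simpa [mul_assoc] using mul_mem m (inv_mem n))
  have ne : ∀ {u v w : G}, u⁻¹ * v ∉ center G → u * w ≠ v * w := fun h e => h (by
    rw [mul_right_cancel e, inv_mul_cancel]; exact one_mem _)
  have th : ∀ u x, IsConj a u → u ∈ (P : Subgroup G) → u⁻¹ * x ∈ center G → 3 ≤ (cl P x).card := fun u x hu uP m => by
    have k : ∀ v ∈ (P : Subgroup G), IsConj a v → v * (u⁻¹ * x) ∈ cl P x := fun v hv h => by
      refine mem_cl.2 ⟨mul_mem hv (center_le P hO m), ?_⟩
      obtain ⟨g, rfl⟩ := isConj_iff.1 (hu.symm.trans h)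
      refine isConj_iff.2 ⟨g, ?_⟩
      rw [mul_assoc (g * u), mem_center_iff.1 m g⁻¹]; group
    exact three_le (k a ha (IsConj.refl a)) (k b hb ab) (k c hc ac) (ne h1) (ne h2) (ne h3)
  let φ : G → ℚ := fun x => 1 / 2 - 1 / (cl P x).card + χ 1 x / 2 - (χ a x + χ b x + χ c x) / 6
  have sum : ∑ x ∈ s, φ x = 0 := by
    have e : (s.card : ℚ) = Nat.card (P : Subgroup G) := by
      rw [hs, ← Set.ncard_eq_toFinset_card]; rfl
    simp only [φ, Finset.sum_sub_distrib, Finset.sum_add_distrib, ← Finset.sum_div, Finset.sum_const, nsmul_eq_mul]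
    rw [hs, count, ← hs, hχ a ha, hχ b hb, hχ c hc, e, ← hk]
    push_cast; ring
  have w3 : ∀ x, 3 ≤ (cl (P : Subgroup G) x).card → (1 / (cl (P : Subgroup G) x).card : ℚ) ≤ 1 / 3 := fun x h =>
    one_div_le_one_div_of_le (by norm_num) (by exact_mod_cast h)
  have pos : ∀ x ∈ s, 0 ≤ φ x := fun x hx => by
    have xP := (ms x).1 hx
    by_cases hz : x ∈ center G
    · have : cl P x = {x} := by
        ext y; rw [mem_cl, Finset.mem_singleton]
        exact ⟨fun h => (cz h.2 hz).symm, fun h => by rw [h]; exact ⟨xP, IsConj.refl _⟩⟩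
      have k : ∀ u, u ∉ center G → u⁻¹ * x ∉ center G := fun u hu m => hu (by simpa using mul_mem hz (inv_mem m))
      simp only [φ, χ, this, k a na, k b nb, k c nc, inv_one, one_mul, hz]
      norm_num
    by_cases m1 : a⁻¹ * x ∈ center G
    · have := w3 x (th a x (IsConj.refl a) ha m1)
      simp only [φ, χ, m1, dj h1 m1, dj h2 m1, inv_one, one_mul, hz, if_true, if_false]; linarith
    by_cases m2 : b⁻¹ * x ∈ center G
    · have := w3 x (th b x ab hb m2)
      simp only [φ, χ, m1, m2, dj h3 m2, inv_one, one_mul, hz, if_true, if_false]; linarith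
    by_cases m3 : c⁻¹ * x ∈ center G
    · have := w3 x (th c x ac hc m3)
      simp only [φ, χ, m1, m2, m3, inv_one, one_mul, hz, if_true, if_false]; linarith
    have : 2 ≤ (cl P x).card := by
      by_contra r
      refine hz (iso_central P hO xP fun g hg => Finset.card_le_one.1 (by omega : (cl P x).card ≤ 1) _
        (mem_cl.2 ⟨hg, isConj_iff.2 ⟨g, rfl⟩⟩) _ (mem_cl.2 ⟨xP, IsConj.refl x⟩))
    have : (1 / (cl P x).card : ℚ) ≤ 1 / 2 := one_div_le_one_div_of_le (by norm_num) (by exact_mod_cast this)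
    simp only [φ, χ, m1, m2, m3, inv_one, one_mul, hz, if_false]; linarith
  have z := (Finset.sum_eq_zero_iff_of_nonneg pos).1 sum
  constructor
  · have := z a ((ms a).2 ha)
    have m1 : a⁻¹ * a ∈ center G := by rw [inv_mul_cancel]; exact one_mem _
    simp only [φ, χ, m1, dj h1 m1, dj h2 m1, inv_one, one_mul, na, if_true, if_false] at this
    have e : (1 / (cl P a).card : ℚ) = 1 / 3 := by linarith
    rw [one_div, one_div, inv_inj] at e
    exact_mod_cast e
  · intro x hx h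
    by_contra! r
    have := z x ((ms x).2 hx)
    have := w3 x h
    have : 0 ≤ χ 1 x := by simp only [χ]; split_ifs <;> norm_num
    simp only [φ, χ, r.1, r.2.1, r.2.2, if_false] at *
    linarith

theorem fin (hO : oddCore G = ⊥) (S : Sylow 2 G) {V : Subgroup G} (hVS : V ≤ S) {a b c : G}
    (hV : ∀ x, x ∈ V ↔ x = 1 ∨ x = a ∨ x = b ∨ x = c) (a1 : a ≠ 1) (ab : a ≠ b) (ac : a ≠ c) (bc : b ≠ c)
    (cb : IsConj a b) (cc : IsConj a c) (fus : ∀ y ∈ (S : Subgroup G), IsConj a y → y ∈ V)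
    (hs : ∀ s ∈ (S : Subgroup G), s ∈ V ∨ s * a * s⁻¹ = a ∧ s * b * s⁻¹ = c) :
    Nonempty (G ≃* alternatingGroup (Fin 4)) ∨ Nonempty (G ≃* Equiv.Perm (Fin 4)) ∨
    ∃ L : Subgroup G, L.Normal ∧ IsSimpleGroup L ∧ ¬ IsMulCommutative L ∧ C[L] = ⊥ ∧
      ∃ (F : Type) (_ : Field F) (_ : Fintype F), 3 < Fintype.card F ∧ (Fintype.card F % 8 = 3 ∨ Fintype.card F % 8 = 5) ∧
        Nonempty (L ≃* PSL(2, F)) := by
  have := Fact.mk Nat.prime_two
  have aV : a ∈ V := (hV a).2 (by simp)
  have bV : b ∈ V := (hV b).2 (by simp)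
  have cV : c ∈ V := (hV c).2 (by simp)
  have sq : ∀ {x y : G}, IsConj x y → x * x = 1 → y * y = 1 := fun h e => by
    obtain ⟨g, rfl⟩ := isConj_iff.1 h
    rw [conj_mul, e]; simp
  have b1 : b ≠ 1 := fun e => a1 (isConj_one_left.1 (e ▸ cb))
  have c1 : c ≠ 1 := fun e => a1 (isConj_one_left.1 (e ▸ cc))
  have aa : a * a = 1 := by
    rcases (hV _).1 (inv_mem aV) with e | e | e | e
    · exact absurd (inv_eq_one.1 e) a1
    · exact inv_eq_iff_mul_eq_one.1 e
    · rcases (hV _).1 (inv_mem cV) with f | f | f | f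
      · exact absurd (inv_eq_one.1 f) c1
      · exact absurd (by rw [← e, ← f, inv_inv]) bc
      · exact absurd (inv_injective (e.trans f.symm)) ac
      · exact sq cc.symm (inv_eq_iff_mul_eq_one.1 f)
    · rcases (hV _).1 (inv_mem bV) with f | f | f | f
      · exact absurd (inv_eq_one.1 f) b1
      · exact absurd (by rw [← e, ← f, inv_inv]) bc
      · exact sq cb.symm (inv_eq_iff_mul_eq_one.1 f)
      · exact absurd (inv_injective (e.trans f.symm)) ab
  have bb := sq cb aa
  have pr : ∀ {x y : G}, x ∈ V → y ∈ V → x * x = 1 → x ≠ y → x ≠ 1 → y ≠ 1 → x * y ≠ 1 ∧ x * y ≠ x ∧ x * y ≠ y :=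
    fun _ _ e n x1 y1 => ⟨fun f => n (mul_left_cancel (e.trans f.symm)), by simpa using y1, by simpa using x1⟩
  have e1 : a * b = c := by
    have := pr aV bV aa ab a1 b1
    rcases (hV _).1 (mul_mem aV bV) with e | e | e | e <;> simp_all
  have e2 : b * a = c := by
    have := pr bV aV bb ab.symm b1 a1
    rcases (hV _).1 (mul_mem bV aV) with e | e | e | e <;> simp_all
  have cm : Commute a b := e1.trans e2.symm
  subst e1
  have hK : IsKleinFour V := isKleinFour_of_mem_iff aa bb cm a1 b1 ab hV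
  have c4 : Nat.card V = 4 := hK.card_four
  have hD : DihSyl G ∧ ∀ L : Subgroup G, (∀ M : Subgroup G, M.Normal → M.index = 2 → L ≤ M) → ¬ 8 ∣ Nat.card L := by
    have oS := S.not_dvd_index
    have mS := (S : Subgroup G).card_mul_index
    by_cases hSV : (S : Subgroup G) ≤ V
    · obtain e := le_antisymm hSV hVS
      refine ⟨⟨S, 2, le_rfl, e ▸ IsKleinFour.nonempty_mulEquiv⟩, fun L _ h => ?_⟩
      have := h.trans (card_subgroup_dvd_card L)
      rw [e, c4] at mS; rw [e] at oS; omega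
    obtain ⟨t, tS, tV, tt⟩ : ∃ t ∈ (S : Subgroup G), t ∉ V ∧ t * t = 1 := by
      obtain ⟨t, tS, tV⟩ := SetLike.not_le_iff_exists.1 hSV
      obtain ⟨f1, f2⟩ := (hs t tS).resolve_left tV
      have f3 : t * (a * b) * t⁻¹ = b := by rw [← conj_mul, f1, f2, mul_self_cancel aa]
      have f4 : t * t * b * (t * t)⁻¹ = b := by
        rw [show t * t * b * (t * t)⁻¹ = t * (t * b * t⁻¹) * t⁻¹ by group, f2, f3]
      have m : t * t ∈ V := (hs _ (mul_mem tS tS)).resolve_right fun h => bc (f4.symm.trans h.2)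
      have f5 : t * (t * t) * t⁻¹ = t * t := by group
      rcases (hV _).1 m with e | e | e | e
      · exact ⟨t, tS, tV, e⟩
      · refine ⟨t * b, mul_mem tS (hVS bV), fun h => tV ((mul_mem_cancel_right bV).1 h), ?_⟩
        rw [show t * b * (t * b) = t * b * t⁻¹ * (t * t) * b by group, f2, e, mul_assoc a, e2, mul_assoc,
          mul_assoc, bb, mul_one, aa]
      · rw [e, f2] at f5; exact absurd f5.symm bc
      · rw [e, f3] at f5; exact absurd f5 bc
    obtain ⟨f1, f2⟩ := (hs t tS).resolve_left tV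
    have ti : t⁻¹ = t := inv_eq_iff_mul_eq_one.2 tt
    have mul : ∀ s ∈ (S : Subgroup G), s ∉ V → s * t ∈ V := fun s sS sV => by
      obtain ⟨g1, g2⟩ := (hs s sS).resolve_left sV
      refine (hs _ (mul_mem sS tS)).resolve_right fun h => bc ?_
      rw [← h.2, show s * t * b * (s * t)⁻¹ = s * (t * b * t⁻¹) * s⁻¹ by group, f2, ← conj_mul, g1, g2,
        mul_self_cancel aa]
    have i2 : V.relIndex S = 2 := relIndex_eq_two_iff.2 ⟨t, tS, fun s sS => by
      by_cases m : s ∈ V
      · exact .inr ⟨m, fun h => tV ((mul_mem_cancel_left m).1 h)⟩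
      · exact .inl ⟨mul s sS m, m⟩⟩
    have nb : b ∉ zpowers (t * b) := by
      rintro ⟨k, hk⟩
      have : Commute (t * b) b := by simpa only [hk] using (Commute.refl (t * b)).zpow_right k
      have : t * b * t⁻¹ = b := by
        rw [mul_inv_eq_iff_eq_mul]
        exact mul_right_cancel (b := b) (by rw [this.eq, mul_assoc])
      exact bc (this.symm.trans f2)
    have ecl : closure ({b, t * b} : Set G) = S := by
      refine le_antisymm ((closure_le _).2 (Set.pair_subset (hVS bV) (mul_mem tS (hVS bV)))) ?_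
      have m1 : b ∈ closure ({b, t * b} : Set G) := subset_closure (by simp)
      have m2 : t ∈ closure ({b, t * b} : Set G) :=
        (mul_mem_cancel_right m1).1 (subset_closure (by simp))
      have m3 : a ∈ closure ({b, t * b} : Set G) :=
        (mul_mem_cancel_right m1).1 (f2 ▸ mul_mem (mul_mem m2 m1) (inv_mem m2))
      have m4 : V ≤ closure ({b, t * b} : Set G) := fun x hx => by
        rcases (hV x).1 hx with rfl | rfl | rfl | rfl
        exacts [one_mem _, m3, m1, mul_mem m3 m1]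
      intro s sS
      by_cases m : s ∈ V
      exacts [m4 m, (mul_mem_cancel_right m2).1 (m4 (mul s sS m))]
    refine ⟨⟨S, orderOf (t * b), ?_, ecl ▸ closure_equiv_dihedral bb (by
      rw [← mul_assoc, mul_inv_cancel_right, mul_inv_rev, ti, inv_eq_iff_mul_eq_one.2 bb]) nb⟩, fun L hL h => ?_⟩
    · have := orderOf_pos (t * b)
      have : orderOf (t * b) ≠ 1 := fun e => tV (by
        rw [eq_inv_of_mul_eq_one_left (orderOf_eq_one_iff.1 e)]; exact inv_mem bV)
      omega
    have t1 : t ≠ 1 := fun e => tV (e ▸ one_mem V)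
    rcases S0111.result S V hVS i2 t (orderOf_eq_prime (by rw [pow_two, tt]) t1) tS tV with ⟨M, hM, hi, -⟩ | ⟨g, hg⟩
    · have d := h.trans (card_dvd_of_le (hL M hM hi))
      have e := M.card_mul_index
      have := card_mul_relIndex hVS
      rw [c4, i2] at this
      rw [← this] at mS; rw [hi] at e; omega
    · have k : ∀ y, IsConj a y → g * t * g⁻¹ ≠ y := fun y hy e =>
        tV (fus t tS (hy.trans (isConj_iff.2 ⟨g, e⟩).symm))
      rcases (hV _).1 hg with e | e | e | e
      exacts [t1 (conj_eq_one_iff.1 e), k _ (IsConj.refl a) e, k _ cb e, k _ cc e]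
  by_cases hsol : Group.IsSolvable G
  · have h2 : ¬ IsPGroup 2 G := fun h => by
      obtain ⟨g, hg⟩ := isConj_iff.1 cb
      have : g ∈ (S : Subgroup G) := (S.is_maximal' (h.to_subgroup ⊤) le_top).le (mem_top g)
      rcases hs g this with m | m
      · exact ab (by rw [← hg, (commute_of_mem_four hK m aV).eq, mul_inv_cancel_right])
      · exact ab (m.1.symm.trans hg)
    obtain ⟨L, _, hC, ⟨e⟩⟩ := hD.1.exists_A4 hO hsol h2
    obtain ⟨K, -, ⟨f⟩⟩ := exists_aut_between hC e
    let ψ := MulEquiv.ofBijective _ (S2119.result 4 le_rfl (by decide))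
    let ρ : G →* Equiv.Perm (Fin 4) := ψ.symm.toMonoidHom.comp (K.subtype.comp f.toMonoidHom)
    have hρ : Function.Injective ρ := ψ.symm.injective.comp (K.subtype_injective.comp f.injective)
    have g := MonoidHom.ofInjective hρ
    have d1 := card_subgroup_dvd_card L
    rw [Nat.card_congr e.toEquiv, Nat.card_congr g.toEquiv, Nat.card_eq_fintype_card, card_alternatingGroup] at d1
    have d2 := ρ.range.card_mul_index
    rw [Nat.card_perm, Nat.card_eq_fintype_card (α := Fin 4), Fintype.card_fin] at d2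
    obtain ⟨k, hk⟩ := d1
    rw [hk] at d2
    simp only [Fintype.card_fin, Nat.factorial] at d2
    have : ρ.range.index = 1 ∨ ρ.range.index = 2 := by
      have : k * ρ.range.index = 2 := by nlinarith
      exact (Nat.dvd_prime Nat.prime_two).1 (Dvd.intro_left _ this)
    rcases this with i | i
    · exact .inr (.inl ⟨g.trans ((MulEquiv.subgroupCongr (index_eq_one.1 i)).trans topEquiv)⟩)
    · exact .inl ⟨g.trans (MulEquiv.subgroupCongr (Equiv.Perm.eq_alternatingGroup_of_index_eq_two i))⟩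
  obtain ⟨L, hL, hsi, nsl, hC, hW⟩ := GWH.struct gw_simple hD.1 hO hsol
  have nc : ¬ IsMulCommutative L := fun h => nsl (Group.isSolvable_of_comm fun x y => h.is_comm.comm x y)
  have n8 := hD.2 L fun M hM hi => by
    rcases (hM.subgroupOf L).eq_bot_or_eq_top with e | e
    · have d : M.relIndex L ∣ 2 := hi ▸ relIndex_dvd_index_of_normal M L
      rw [relIndex, e, index_bot] at d
      have := Fact.mk Nat.prime_two
      refine absurd ?_ nc
      rcases (Nat.dvd_prime Nat.prime_two).1 d with f | f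
      · have := (Nat.card_eq_one_iff_unique.1 f).1; infer_instance
      · have := isCyclic_of_prime_card f; infer_instance
    · exact subgroupOf_eq_top.1 e
  rcases hW with ⟨q, F, _, _, rfl, ho, h3, ⟨e⟩⟩ | ⟨⟨e⟩⟩
  · refine .inr (.inr ⟨L, hL, hsi, nc, hC, F, _, _, h3, ?_, ⟨e⟩⟩)
    have cL := Cfsg.Agent.Classical.card_PSL2_mul (F := F)
    rw [← Nat.card_congr e.toEquiv, Nat.card_eq_fintype_card (α := F),
      Nat.gcd_eq_left (by obtain ⟨k, hk⟩ := ho; omega)] at cL
    generalize Fintype.card F = q at *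
    by_contra r
    obtain ⟨k, rfl | rfl⟩ : ∃ k, q = 8 * k + 1 ∨ q = 8 * k + 7 := ⟨q / 8, by obtain ⟨k, hk⟩ := ho; omega⟩
    · exact n8 ⟨(8 * k + 1) * k * (4 * k + 1), by rw [Nat.add_sub_cancel] at cL; nlinarith⟩
    · exact n8 ⟨(8 * k + 7) * (4 * k + 3) * (k + 1), by
        rw [show 8 * k + 7 - 1 = 8 * k + 6 by omega] at cL; nlinarith⟩
  · refine absurd ?_ n8
    rw [Nat.card_congr e.toEquiv, Nat.card_eq_fintype_card, card_alternatingGroup]; decide

end Cfsg.Agent.HalfCl
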